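import Mathlib

/-!
# A Brauer–Wielandt step (seat helper20)

`bw`: commuting automorphisms `a`, `c` of order dividing `p` of a finite commutative group `V`
of order prime to `p`, `c` fixed-point-free, `b` conjugating `a` to `a * c`:
then `|V| = |C_V(a)| ^ p`.
-/

set_option autoImplicit false

namespace Cfsg.Agent.Lib.helper20.BWStep

section Abstract

variable {V : Type*} [CommGroup V]

/-- The norm endomorphism of an automorphism `φ` (with respect to `p`). -/
noncomputable def Nh (p : ℕ) (φ : MulAut V) : V →* V :=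
  ∏ k ∈ Finset.range p, (φ ^ k).toMonoidHom

theorem Nh_apply (p : ℕ) (φ : MulAut V) (v : V) :
    Nh p φ v = ∏ k ∈ Finset.range p, (φ ^ k) v := by
  unfold Nh
  rw [MonoidHom.finsetProd_apply]
  rfl

theorem Nh_fix (p : ℕ) (φ : MulAut V) (hφ : φ ^ p = 1) (v : V) : φ (Nh p φ v) = Nh p φ v := by
  rw [Nh_apply, map_prod]
  have h1 : ∀ k, φ ((φ ^ k) v) = (φ ^ (k + 1)) v := by
    intro k; rw [pow_succ']; rfl
  simp only [h1]
  have h2 := Finset.prod_range_succ' (fun k => (φ ^ k) v) p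
  have h3 := Finset.prod_range_succ (fun k => (φ ^ k) v) p
  rw [h3] at h2
  rw [hφ, pow_zero] at h2
  exact (mul_right_cancel h2).symm

theorem pow_fix (φ : MulAut V) (v : V) (h : φ v = v) (k : ℕ) : (φ ^ k) v = v := by
  induction k with
  | zero => simp
  | succ k ih => rw [pow_succ, MulAut.mul_apply, h, ih]

theorem Nh_of_fix (p : ℕ) (φ : MulAut V) (v : V) (h : φ v = v) : Nh p φ v = v ^ p := by
  rw [Nh_apply, Finset.prod_congr rfl (fun k _ => pow_fix φ v h k), Finset.prod_const,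
    Finset.card_range]

theorem Nh_pow_eq_one {p : ℕ} [Fact p.Prime] (c : MulAut V) (hc : c ^ p = 1)
    (hfix : ∀ v, c v = v → v = 1) (m : ℕ) (hm : ¬ p ∣ m) (v : V) :
    ∏ k ∈ Finset.range p, (c ^ (m * k)) v = 1 := by
  have hp := (Fact.out : p.Prime)
  have h1 : (c ^ m) ^ p = 1 := by rw [← pow_mul, mul_comm, pow_mul, hc, one_pow]
  have h2 : ∏ k ∈ Finset.range p, (c ^ (m * k)) v = Nh p (c ^ m) v := by
    rw [Nh_apply]; apply Finset.prod_congr rfl; intro k _; rw [pow_mul]
  rw [h2]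
  apply hfix
  have hcop : Nat.Coprime m p := (Nat.Coprime.symm ((Nat.Prime.coprime_iff_not_dvd hp).mpr hm))
  obtain ⟨m', hm'⟩ := Nat.exists_mul_emod_eq_one_of_coprime hcop hp.one_lt
  have h3 : c = (c ^ m) ^ m' := by
    rw [← pow_mul, pow_eq_pow_mod (m * m') hc, hm', pow_one]
  have h4 := Nh_fix p (c ^ m) h1 v
  have h5 : c (Nh p (c ^ m) v) = ((c ^ m) ^ m') (Nh p (c ^ m) v) := by rw [← h3]
  rw [h5]
  exact pow_fix _ _ h4 m'

/-- If `a w = c^q w` with `p ∤ q`, `c` fixed-point-free of order dividing `p` commuting with `a`,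
then the `a`-norm of `w` is trivial. -/
theorem Nh_twist {p : ℕ} [Fact p.Prime] (a c : MulAut V) (hc : c ^ p = 1) (hac : Commute a c)
    (hfix : ∀ v, c v = v → v = 1) (q : ℕ) (hq : ¬ p ∣ q) (w : V) (hw : a w = (c ^ q) w) :
    Nh p a w = 1 := by
  have h1 : ∀ k, (a ^ k) w = (c ^ (q * k)) w := by
    intro k
    induction k with
    | zero => simp
    | succ k ih =>
      have hcm : a ^ k * c ^ q = c ^ q * a ^ k := ((hac.pow_left k).pow_right q).eq
      calc (a ^ (k + 1)) w = (a ^ k) (a w) := by rw [pow_succ]; rfl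
        _ = (a ^ k * c ^ q) w := by rw [hw]; rfl
        _ = (c ^ q) ((a ^ k) w) := by rw [hcm]; rfl
        _ = (c ^ q) ((c ^ (q * k)) w) := by rw [ih]
        _ = (c ^ (q * (k + 1))) w := by
          rw [mul_add, mul_one, add_comm, pow_add]; rfl
  rw [Nh_apply, Finset.prod_congr rfl (fun k _ => h1 k)]
  exact Nh_pow_eq_one c hc hfix q hq w

theorem bw [Finite V] {p : ℕ} [Fact p.Prime] (a b c : MulAut V) (ha : a ^ p = 1) (hc : c ^ p = 1)
    (hac : a * c = c * a) (hbc : b * c = c * b) (hba : b * a = a * c * b)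
    (hfix : ∀ v, c v = v → v = 1) (hcop : (Nat.card V).Coprime p) :
    Nat.card V = Nat.card {v : V // a v = v} ^ p := by
  have hp := (Fact.out : p.Prime)
  have hac' : Commute a c := hac
  have hbc' : Commute b c := hbc
  -- conjugation relation for powers of `b`
  have hR : ∀ i : ℕ, b ^ i * a = a * c ^ i * b ^ i := by
    intro i
    induction i with
    | zero => simp
    | succ i ih =>
      calc b ^ (i + 1) * a = b ^ i * (b * a) := by rw [pow_succ, mul_assoc]
        _ = b ^ i * (a * c * b) := by rw [hba]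
        _ = (b ^ i * a) * c * b := by simp only [mul_assoc]
        _ = (a * c ^ i * b ^ i) * c * b := by rw [ih]
        _ = a * c ^ i * (b ^ i * c) * b := by simp only [mul_assoc]
        _ = a * c ^ i * (c * b ^ i) * b := by rw [(hbc'.pow_left i).eq]
        _ = a * c ^ (i + 1) * b ^ (i + 1) := by rw [pow_succ, pow_succ]; simp only [mul_assoc]
  have hacp : ∀ i : ℕ, (a * c ^ i) ^ p = 1 := by
    intro i
    rw [(hac'.pow_right i).mul_pow, ha, one_mul, ← pow_mul, mul_comm, pow_mul, hc, one_pow]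
  let Fa : Subgroup V :=
    { carrier := {v | a v = v}
      mul_mem' := by
        intro u v hu hv
        simp only [Set.mem_setOf_eq] at hu hv ⊢
        rw [map_mul, hu, hv]
      one_mem' := by simp
      inv_mem' := by
        intro u hu
        simp only [Set.mem_setOf_eq] at hu ⊢
        rw [map_inv, hu] }
  have hFa : ∀ f : ↥Fa, a (f : V) = f := fun f => f.2
  -- elements of `b^i Fa` are fixed by `a c^i`
  have hfixi : ∀ (i : ℕ) (f : ↥Fa), (a * c ^ i) ((b ^ i) (f : V)) = (b ^ i) (f : V) := by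
    intro i f
    have h1 : (a * c ^ i * b ^ i) (f : V) = (b ^ i * a) (f : V) := by rw [hR i]
    calc (a * c ^ i) ((b ^ i) (f : V)) = (a * c ^ i * b ^ i) (f : V) := rfl
      _ = (b ^ i * a) (f : V) := h1
      _ = (b ^ i) (a (f : V)) := rfl
      _ = (b ^ i) (f : V) := by rw [hFa f]
  let Ψ : (Fin p → ↥Fa) →* V :=
    ∏ i : Fin p, ((b ^ (i : ℕ)).toMonoidHom.comp (Fa.subtype.comp (Pi.evalMonoidHom (fun _ => ↥Fa) i)))
  have hΨ : ∀ g : Fin p → ↥Fa, Ψ g = ∏ i : Fin p, (b ^ (i : ℕ)) ((g i : ↥Fa) : V) := by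
    intro g
    show (∏ i : Fin p, ((b ^ (i : ℕ)).toMonoidHom.comp
      (Fa.subtype.comp (Pi.evalMonoidHom (fun _ => ↥Fa) i)))) g = _
    rw [MonoidHom.finsetProd_apply]
    rfl
  have hpowinj : ∀ v : V, v ^ p = 1 → v = 1 := by
    intro v hv
    have := (powCoprime hcop).injective (a₁ := v) (a₂ := 1) (by simp [hv])
    exact this
  have hinj : Function.Injective Ψ := by
    rw [injective_iff_map_eq_one]
    intro g hg
    funext j
    apply Subtype.ext
    show ((g j : ↥Fa) : V) = 1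
    have key : Nh p (a * c ^ (j : ℕ)) (Ψ g) = ((b ^ (j : ℕ)) ((g j : ↥Fa) : V)) ^ p := by
      rw [hΨ, map_prod, Finset.prod_eq_single j]
      · exact Nh_of_fix p _ _ (hfixi j (g j))
      · intro i _ hij
        -- `a (b^i f) = c^(p-i) (b^i f)`
        set w := (b ^ (i : ℕ)) ((g i : ↥Fa) : V) with hw
        have hi : (i : ℕ) < p := i.2
        have hj : (j : ℕ) < p := j.2
        have h1 : (c ^ (i : ℕ)) (a w) = w := by
          have := hfixi i (g i)
          rw [← hw] at this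
          calc (c ^ (i : ℕ)) (a w) = (c ^ (i : ℕ) * a) w := rfl
            _ = (a * c ^ (i : ℕ)) w := by rw [(hac'.pow_right (i : ℕ)).eq]
            _ = w := this
        have h2 : a w = (c ^ (p - (i : ℕ))) w := by
          have h3 : (c ^ (p - (i : ℕ))) ((c ^ (i : ℕ)) (a w)) = a w := by
            calc (c ^ (p - (i : ℕ))) ((c ^ (i : ℕ)) (a w))
                = (c ^ (p - (i : ℕ)) * c ^ (i : ℕ)) (a w) := rfl
              _ = a w := by rw [← pow_add, Nat.sub_add_cancel hi.le, hc]; rfl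
          rw [← h3, h1]
        have h4 : (a * c ^ (j : ℕ)) w = (c ^ ((j : ℕ) + (p - (i : ℕ)))) w := by
          calc (a * c ^ (j : ℕ)) w = (c ^ (j : ℕ) * a) w := by rw [(hac'.pow_right (j : ℕ)).eq]
            _ = (c ^ (j : ℕ)) (a w) := rfl
            _ = (c ^ (j : ℕ)) ((c ^ (p - (i : ℕ))) w) := by rw [h2]
            _ = (c ^ ((j : ℕ) + (p - (i : ℕ)))) w := by rw [pow_add]; rfl
        have hnd : ¬ p ∣ (j : ℕ) + (p - (i : ℕ)) := by
          rintro ⟨k, hk⟩
          have hij' : (i : ℕ) ≠ (j : ℕ) := fun h => hij (Fin.ext h)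
          rcases k with _ | _ | k
          · omega
          · omega
          · have : p * (k + 1 + 1) = p * k + 2 * p := by ring
            omega
        exact Nh_twist (a * c ^ (j : ℕ)) c hc ((Commute.refl c).pow_left (j : ℕ) |>.mul_left hac' |> fun h => h) hfix _ hnd w h4
      · intro h; exact absurd (Finset.mem_univ j) h
    rw [hg, map_one] at key
    have h5 := hpowinj _ key.symm
    exact (map_eq_one_iff (b ^ (j : ℕ)) (b ^ (j : ℕ)).injective).mp h5
  have hsurj : Function.Surjective Ψ := by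
    intro v
    obtain ⟨u, hu⟩ := (powCoprime hcop).surjective v
    have hu' : u ^ p = v := hu
    have hmem : ∀ i : ℕ, a ((b ^ i)⁻¹ (Nh p (a * c ^ i) u)) = (b ^ i)⁻¹ (Nh p (a * c ^ i) u) := by
      intro i
      apply (b ^ i).injective
      have hX := Nh_fix p (a * c ^ i) (hacp i) u
      calc (b ^ i) (a ((b ^ i)⁻¹ (Nh p (a * c ^ i) u)))
          = (b ^ i * a) ((b ^ i)⁻¹ (Nh p (a * c ^ i) u)) := rfl
        _ = (a * c ^ i * b ^ i) ((b ^ i)⁻¹ (Nh p (a * c ^ i) u)) := by rw [hR i]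
        _ = (a * c ^ i) ((b ^ i) ((b ^ i)⁻¹ (Nh p (a * c ^ i) u))) := rfl
        _ = (a * c ^ i) (Nh p (a * c ^ i) u) := by rw [MulAut.apply_inv_self]
        _ = Nh p (a * c ^ i) u := hX
        _ = (b ^ i) ((b ^ i)⁻¹ (Nh p (a * c ^ i) u)) := by rw [MulAut.apply_inv_self]
    refine ⟨fun i => ⟨(b ^ (i : ℕ))⁻¹ (Nh p (a * c ^ (i : ℕ)) u), hmem i⟩, ?_⟩
    rw [hΨ]
    have h1 : ∀ i : Fin p, (b ^ (i : ℕ)) ((b ^ (i : ℕ))⁻¹ (Nh p (a * c ^ (i : ℕ)) u)) =
        Nh p (a * c ^ (i : ℕ)) u := fun i => MulAut.apply_inv_self _ _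
    simp only [h1]
    rw [Fin.prod_univ_eq_prod_range (fun i => Nh p (a * c ^ i) u) p]
    have h2 : ∀ i k : ℕ, ((a * c ^ i) ^ k) u = (a ^ k) ((c ^ (k * i)) u) := by
      intro i k
      rw [(hac'.pow_right i).mul_pow k, ← pow_mul, mul_comm i k]; rfl
    simp only [Nh_apply, h2]
    rw [Finset.prod_comm, Finset.prod_eq_single 0]
    · simp [hu']
    · intro k hk hk0
      rw [← map_prod, Nh_pow_eq_one c hc hfix k ?_ u, map_one]
      intro hdvd
      have := Nat.le_of_dvd (Nat.pos_of_ne_zero hk0) hdvd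
      exact absurd (Finset.mem_range.mp hk) (not_lt.mpr this)
    · intro h; exact absurd (Finset.mem_range.mpr hp.pos) h
  have hcard : Nat.card V = Nat.card (Fin p → ↥Fa) :=
    (Nat.card_congr (Equiv.ofBijective Ψ ⟨hinj, hsurj⟩)).symm
  rw [hcard, Nat.card_fun, Nat.card_fin]
  rfl

end Abstract

end Cfsg.Agent.Lib.helper20.BWStep
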