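import Mathlib
import Cfsg.Prelude.Def_Transfer
import Cfsg.Agent.Lib.helper1.PGroup

set_option autoImplicit false

namespace Cfsg.Agent.Lib.helper20.Extraspecial

open Cfsg.Agent.Lib.helper1
open scoped commutatorElement

theorem extraspecial_of {X : Type*} [Group X] [Finite X] {p : ℕ} [Fact p.Prime]
    (hX : IsPGroup p X) (hZ : Nat.card (Subgroup.center X) = p)
    (hc : commutator X ≤ Subgroup.center X) (hna : ∃ a b : X, a * b ≠ b * a)
    (hpow : ∀ x : X, x ^ p ∈ Subgroup.center X) : Cfsg.IsExtraspecial p X := by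
  have hpp : p.Prime := Fact.out
  have hcomm : commutator X = Subgroup.center X := by
    apply Subgroup.eq_of_le_of_card_ge hc
    have hdvd : Nat.card ↥(commutator X) ∣ Nat.card ↥(Subgroup.center X) :=
      Subgroup.card_dvd_of_le hc
    rw [hZ] at hdvd ⊢
    rcases (Nat.dvd_prime hpp).mp hdvd with h1 | h1
    · exfalso
      have hbot := Subgroup.eq_bot_of_card_eq _ h1
      obtain ⟨a, b, hab⟩ := hna
      have hmem : ⁅a, b⁆ ∈ commutator X := by
        rw [commutator_def]
        exact Subgroup.commutator_mem_commutator (Subgroup.mem_top a) (Subgroup.mem_top b)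
      rw [hbot, Subgroup.mem_bot, commutatorElement_def] at hmem
      apply hab
      calc a * b = (a * b * a⁻¹ * b⁻¹) * (b * a) := by group
        _ = b * a := by rw [hmem, one_mul]
    · exact h1.ge
  refine ⟨⟨hX, ?_, hcomm⟩, hZ⟩
  apply le_antisymm
  · exact frattini_le_of_elementary_quotient p (Subgroup.center X) hc hpow
  · rw [← hcomm]; exact commutator_le_frattini p hX

theorem extraspecial_p3 {X : Type*} [Group X] [Finite X] {p : ℕ} [Fact p.Prime]
    (hcard : Nat.card X = p ^ 3) (hna : ∃ a b : X, a * b ≠ b * a) (hpow : ∀ x : X, x ^ p = 1) :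
    Cfsg.IsExtraspecial p X ∧ Monoid.exponent X = p := by
  have hpp : p.Prime := Fact.out
  have hX : IsPGroup p X := IsPGroup.of_card hcard
  haveI : Nontrivial X := by
    obtain ⟨a, b, hab⟩ := hna
    exact ⟨⟨a * b, b * a, hab⟩⟩
  have hZnt : Nontrivial ↥(Subgroup.center X) := hX.center_nontrivial
  have hZdvd : Nat.card ↥(Subgroup.center X) ∣ p ^ 3 := by
    rw [← hcard]; exact Subgroup.card_subgroup_dvd_card _
  obtain ⟨k, hk3, hk⟩ := (Nat.dvd_prime_pow hpp).mp hZdvd
  have hidx := Subgroup.card_eq_card_quotient_mul_card_subgroup (Subgroup.center X)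
  rw [hcard, hk] at hidx
  have hk0 : k ≠ 0 := by
    rintro rfl
    rw [pow_zero] at hk
    have := (Subgroup.eq_bot_of_card_eq _ hk)
    rw [this] at hZnt
    exact not_nontrivial _ hZnt
  have hk3' : k ≠ 3 := by
    rintro rfl
    obtain ⟨a, b, hab⟩ := hna
    have htop : Subgroup.center X = ⊤ := by
      apply Subgroup.eq_top_of_card_eq
      rw [hk, hcard]
    have ha : a ∈ Subgroup.center X := by rw [htop]; exact Subgroup.mem_top a
    exact hab ((Subgroup.mem_center_iff.mp ha b).symm)
  have hk2 : k ≠ 2 := by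
    rintro rfl
    obtain ⟨a, b, hab⟩ := hna
    have hq : Nat.card (X ⧸ Subgroup.center X) = p := by
      have h1 : p ^ 3 = p * p ^ 2 := by ring
      rw [h1] at hidx
      exact (Nat.eq_of_mul_eq_mul_right (pow_pos hpp.pos 2) hidx).symm
    haveI : IsCyclic (X ⧸ Subgroup.center X) := isCyclic_of_prime_card hq
    exact hab (commutative_of_cyclic_center_quotient (QuotientGroup.mk' (Subgroup.center X))
      (by rw [QuotientGroup.ker_mk']) a b)
  have hk1 : k = 1 := by omega
  subst hk1
  rw [pow_one] at hk hidx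
  have hq : Nat.card (X ⧸ Subgroup.center X) = p ^ 2 := by
    have h1 : p ^ 3 = p ^ 2 * p := by ring
    rw [h1] at hidx
    exact (Nat.eq_of_mul_eq_mul_right hpp.pos hidx).symm
  have hqc := IsPGroup.commutative_of_card_eq_prime_sq hq
  have hc : commutator X ≤ Subgroup.center X := by
    rw [commutator_eq_closure, Subgroup.closure_le]
    rintro _ ⟨a, b, rfl⟩
    rw [SetLike.mem_coe, ← QuotientGroup.eq_one_iff, commutatorElement_def]
    have h2 := hqc (QuotientGroup.mk a) (QuotientGroup.mk b)
    rw [QuotientGroup.mk_mul, QuotientGroup.mk_mul, QuotientGroup.mk_mul, h2]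
    simp
  refine ⟨extraspecial_of hX hk hc hna (fun x => by rw [hpow x]; exact Subgroup.one_mem _), ?_⟩
  have hdvd : Monoid.exponent X ∣ p := Monoid.exponent_dvd_of_forall_pow_eq_one hpow
  rcases (Nat.dvd_prime hpp).mp hdvd with h1 | h1
  · exfalso
    rw [Monoid.exp_eq_one_iff] at h1
    exact not_nontrivial X ‹Nontrivial X›
  · exact h1

end Cfsg.Agent.Lib.helper20.Extraspecial
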