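import Mathlib
import Cfsg.Agent.Lib.helper20.ClassSize

set_option autoImplicit false

namespace Cfsg.Agent.Lib.helper20.PiClosed

open scoped Pointwise

/-- The homogeneity hypothesis: `N_G(H)/C_G(H)` is a `π'`-group for nontrivial `π'`-subgroups. -/
def Hom (π : Set ℕ) (G : Type*) [Group G] : Prop :=
  ∀ H : Subgroup G, H ≠ ⊥ → (∀ p : ℕ, p.Prime → p ∣ Nat.card ↥H → p ∉ π) →
    ∀ p : ℕ, p.Prime →
      p ∣ (Subgroup.centralizer (H : Set G)).relIndex (Subgroup.normalizer (H : Set G)) → p ∉ π

theorem coprime_of_pi {π : Set ℕ} {a b : ℕ} (ha : ∀ q : ℕ, q.Prime → q ∣ a → q ∈ π)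
    (hb : ∀ q : ℕ, q.Prime → q ∣ b → q ∉ π) : Nat.Coprime a b := by
  apply Nat.coprime_of_dvd
  intro k hk hka hkb
  exact hb k hk hkb (ha k hk hka)

theorem mem_of_pow_mem_coprime {G : Type*} [Group G] (H : Subgroup G) (x : G) {a b : ℕ}
    (hab : Nat.Coprime a b) (ha : x ^ a ∈ H) (hb : x ^ b ∈ H) : x ∈ H := by
  have h1 := Nat.gcd_eq_gcd_ab a b
  rw [hab.gcd_eq_one] at h1
  have h2 : x = (x ^ a) ^ (Nat.gcdA a b) * (x ^ b) ^ (Nat.gcdB a b) := by
    rw [← zpow_natCast, ← zpow_natCast, ← zpow_mul, ← zpow_mul, ← zpow_add, ← h1]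
    simp
  rw [h2]
  exact H.mul_mem (H.zpow_mem ha _) (H.zpow_mem hb _)

theorem mem_of_coprime_index {G : Type*} [Group G] (K : Subgroup G) [K.Normal] (x : G)
    (h : Nat.Coprime (orderOf x) K.index) : x ∈ K := by
  apply mem_of_pow_mem_coprime K x h
  · rw [pow_orderOf_eq_one]; exact K.one_mem
  · exact Subgroup.pow_index_mem K x

/-- A subgroup containing all prime-power-order powers of `x` contains `x`. -/
theorem mem_of_primary_mem {G : Type*} [Group G] [Finite G] (C : Subgroup G) :
    ∀ n : ℕ, ∀ x : G, orderOf x = n →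
      (∀ y ∈ Subgroup.zpowers x, (∃ r k : ℕ, r.Prime ∧ orderOf y = r ^ k) → y ∈ C) → x ∈ C := by
  intro n
  induction n using Nat.strong_induction_on with
  | _ n ih =>
    intro x hx hC
    by_cases h1 : n = 1
    · rw [h1, orderOf_eq_one_iff] at hx
      rw [hx]; exact C.one_mem
    · obtain ⟨p, hp, hpn⟩ := Nat.exists_prime_and_dvd h1
      haveI : Fact p.Prime := ⟨hp⟩
      obtain ⟨u, v, hxuv, huv, ⟨k, hk⟩, hv, hu_mem, hv_mem⟩ :=
        Cfsg.Agent.Lib.helper20.exists_p_decomp p x
      have hu : u ∈ C := by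
        apply hC u hu_mem
        obtain ⟨j, -, hj⟩ := (Nat.dvd_prime_pow hp).mp (orderOf_dvd_of_pow_eq_one hk)
        exact ⟨p, j, hp, hj⟩
      have hvn : orderOf v ∣ n := by
        rw [← hx]; exact orderOf_dvd_of_mem_zpowers hv_mem
      have hvlt : orderOf v < n := by
        have hle := Nat.le_of_dvd (by rw [← hx]; exact orderOf_pos x) hvn
        rcases lt_or_eq_of_le hle with h | h
        · exact h
        · exfalso
          rw [h] at hv
          have := Nat.Coprime.eq_one_of_dvd hv.symm hpn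
          exact hp.one_lt.ne' this
      have hv' : v ∈ C := by
        apply ih (orderOf v) hvlt v rfl
        intro y hy hyp
        exact hC y (Subgroup.zpowers_le.mpr hv_mem hy) hyp
      rw [hxuv]; exact C.mul_mem hu hv'

theorem conj_mem_centralizer {G : Type*} [Group G] (H : Subgroup G) (n c : G)
    (hn : n ∈ Subgroup.normalizer (H : Set G)) (hc : c ∈ Subgroup.centralizer (H : Set G)) :
    n * c * n⁻¹ ∈ Subgroup.centralizer (H : Set G) := by
  rw [Subgroup.mem_centralizer_iff] at hc ⊢
  intro h hh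
  have h1 : n⁻¹ * h * n ∈ H := by
    rw [Subgroup.mem_normalizer_iff] at hn
    rw [hn (n⁻¹ * h * n)]
    have : n * (n⁻¹ * h * n) * n⁻¹ = h := by group
    rw [this]; exact hh
  have h2 := hc _ h1
  calc h * (n * c * n⁻¹) = n * (n⁻¹ * h * n * c) * n⁻¹ := by group
    _ = n * (c * (n⁻¹ * h * n)) * n⁻¹ := by rw [h2]
    _ = n * c * n⁻¹ * h := by group

theorem relIndex_dvd_relIndex_of_normal' {G : Type*} [Group G] (C N₁ N₂ : Subgroup G)
    (hle : N₁ ≤ N₂) (hn : ∀ n ∈ N₂, ∀ c ∈ C, n * c * n⁻¹ ∈ C) :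
    C.relIndex N₁ ∣ C.relIndex N₂ := by
  haveI : (C.subgroupOf N₂).Normal := by
    constructor
    intro c hc n
    rw [Subgroup.mem_subgroupOf] at hc ⊢
    exact hn n n.2 c hc
  have h1 := Subgroup.relIndex_dvd_index_of_normal (C.subgroupOf N₂) (N₁.subgroupOf N₂)
  rw [Subgroup.relIndex_subgroupOf hle] at h1
  exact h1

theorem index_dvd_card_of_sup_eq_top {G : Type*} [Group G] [Finite G] (K N : Subgroup G)
    [K.Normal] (h : K ⊔ N = ⊤) : N.index ∣ Nat.card K := by
  have h1 : (N ⊓ K).relIndex K * K.index = (N ⊓ K).index :=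
    Subgroup.relIndex_mul_index inf_le_right
  have h2 : (N ⊓ K).relIndex N * N.index = (N ⊓ K).index :=
    Subgroup.relIndex_mul_index inf_le_left
  rw [Subgroup.inf_relIndex_right] at h1
  rw [Subgroup.inf_relIndex_left] at h2
  have h3 : K.relIndex (N ⊔ K) * (N ⊔ K).index = K.index :=
    Subgroup.relIndex_mul_index le_sup_right
  rw [Subgroup.relIndex_sup_right, sup_comm, h, Subgroup.index_top, mul_one] at h3
  have hne : K.index ≠ 0 := Subgroup.index_ne_zero_of_finite
  have h4 : N.relIndex K = N.index := by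
    apply Nat.eq_of_mul_eq_mul_right (Nat.pos_of_ne_zero hne)
    rw [h1, ← h2, h3, mul_comm]
  rw [← h4]
  exact Subgroup.relIndex_dvd_card N K

theorem hom_subgroup {G : Type*} [Group G] [Finite G] {π : Set ℕ} (h : Hom π G)
    (T : Subgroup G) : Hom π ↥T := by
  intro H hH hHπ p hp hdvd
  set H' := H.map T.subtype with hH'
  have hne : H' ≠ ⊥ := by
    intro h0
    apply hH
    rw [hH'] at h0
    exact (Subgroup.map_eq_bot_iff_of_injective H (Subgroup.subtype_injective T)).mp h0
  have hcard : Nat.card H' = Nat.card H :=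
    Subgroup.card_map_of_injective (Subgroup.subtype_injective T)
  have hcomap : Subgroup.centralizer (H : Set ↥T) =
      (Subgroup.centralizer (H' : Set G)).comap T.subtype := by
    ext c
    rw [Subgroup.mem_comap, Subgroup.mem_centralizer_iff, Subgroup.mem_centralizer_iff]
    constructor
    · intro hc y hy
      obtain ⟨y', hy', rfl⟩ := hy
      have := hc y' hy'
      exact congrArg Subtype.val this
    · intro hc y hy
      apply Subtype.ext
      exact hc (y : G) ⟨y, hy, rfl⟩
  have hNle : (Subgroup.normalizer (H : Set ↥T)).map T.subtype ≤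
      Subgroup.normalizer (H' : Set G) := by
    rintro _ ⟨n, hn', rfl⟩
    have hn : n ∈ Subgroup.normalizer (H : Set ↥T) := hn'
    rw [Subgroup.mem_normalizer_iff] at hn ⊢
    intro y
    constructor
    · rintro ⟨y', hy', rfl⟩
      exact ⟨n * y' * n⁻¹, (hn y').mp hy', rfl⟩
    · rintro ⟨z, hz, hzy⟩
      have hzy' : (z : G) = (n : G) * y * (n : G)⁻¹ := hzy
      have hyT : y ∈ T := by
        have : y = (n : G)⁻¹ * (z : G) * (n : G) := by
          rw [hzy']; group
        rw [this]; exact T.mul_mem (T.mul_mem (T.inv_mem n.2) z.2) n.2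
      refine ⟨⟨y, hyT⟩, ?_, rfl⟩
      show (⟨y, hyT⟩ : ↥T) ∈ H
      rw [hn ⟨y, hyT⟩]
      have : n * ⟨y, hyT⟩ * n⁻¹ = z := by
        apply Subtype.ext; exact hzy'.symm
      rw [this]; exact hz
  have hrel : (Subgroup.centralizer (H : Set ↥T)).relIndex (Subgroup.normalizer (H : Set ↥T)) =
      (Subgroup.centralizer (H' : Set G)).relIndex
        ((Subgroup.normalizer (H : Set ↥T)).map T.subtype) := by
    rw [hcomap, Subgroup.relIndex_comap]
  have hdiv : (Subgroup.centralizer (H' : Set G)).relIndex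
        ((Subgroup.normalizer (H : Set ↥T)).map T.subtype) ∣
      (Subgroup.centralizer (H' : Set G)).relIndex (Subgroup.normalizer (H' : Set G)) :=
    relIndex_dvd_relIndex_of_normal' _ _ _ hNle
      (fun n hn c hc => conj_mem_centralizer H' n c hn hc)
  exact h H' hne (by rw [hcard]; exact hHπ) p hp (by rw [hrel] at hdvd; exact dvd_trans hdvd hdiv)

/-- Finish: a normal `π'`-subgroup `K` of `π`-index centralized by all primary `π`-elements. -/
theorem lemmaA {G : Type*} [Group G] [Finite G] (π : Set ℕ) (K : Subgroup G) [K.Normal]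
    (hK : ∀ q : ℕ, q.Prime → q ∣ Nat.card K → q ∉ π)
    (hidx : ∀ q : ℕ, q.Prime → q ∣ K.index → q ∈ π)
    (hcent : ∀ x : G, (∃ r k : ℕ, r.Prime ∧ r ∈ π ∧ orderOf x = r ^ k) →
      x ∈ Subgroup.centralizer (K : Set G)) :
    ∃ D : Subgroup G, ∀ x : G, x ∈ D ↔ ∀ p : ℕ, p.Prime → p ∣ orderOf x → p ∈ π := by
  classical
  set C := Subgroup.centralizer (K : Set G) with hC
  have hall : ∀ x : G, (∀ p : ℕ, p.Prime → p ∣ orderOf x → p ∈ π) → x ∈ C := by
    intro x hx
    apply mem_of_primary_mem C (orderOf x) x rfl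
    rintro y hy ⟨r, k, hr, hyr⟩
    by_cases hk : k = 0
    · rw [hk, pow_zero, orderOf_eq_one_iff] at hyr
      rw [hyr]; exact C.one_mem
    · apply hcent y ⟨r, k, hr, ?_, hyr⟩
      apply hx r hr
      have h1 : orderOf y ∣ orderOf x := orderOf_dvd_of_mem_zpowers hy
      rw [hyr] at h1
      exact dvd_trans (dvd_pow_self r hk) h1
  set Z := K.subgroupOf C with hZ
  haveI : Z.Normal := by rw [hZ]; infer_instance
  have hZidx : ∀ q : ℕ, q.Prime → q ∣ Z.index → q ∈ π := by
    intro q hq hdvd
    apply hidx q hq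
    exact dvd_trans hdvd (Subgroup.relIndex_dvd_index_of_normal K C)
  have hZcard : ∀ q : ℕ, q.Prime → q ∣ Nat.card Z → q ∉ π := by
    intro q hq hdvd
    apply hK q hq
    have h1 : Nat.card Z ∣ Nat.card K := by
      have : Nat.card Z = Nat.card ↥(K ⊓ C) := by
        rw [hZ, ← Subgroup.inf_subgroupOf_right]
        exact Nat.card_congr (Subgroup.subgroupOfEquivOfLe inf_le_right).toEquiv
      rw [this]; exact Subgroup.card_dvd_of_le inf_le_left
    exact dvd_trans hdvd h1
  have hcop : Nat.Coprime (Nat.card Z) Z.index := (coprime_of_pi hZidx hZcard).symm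
  obtain ⟨D', hD'⟩ := Subgroup.exists_right_complement'_of_coprime hcop
  have hD'card : Nat.card D' = Z.index := by
    have h1 := hD'.card_mul_card
    have h2 := Z.card_mul_index
    exact Nat.eq_of_mul_eq_mul_left Nat.card_pos (h1.trans h2.symm)
  have hchar : ∀ x : ↥C, x ∈ D' ↔ ∀ p : ℕ, p.Prime → p ∣ orderOf x → p ∈ π := by
    intro x
    constructor
    · intro hx p hp hdvd
      apply hZidx p hp
      rw [← hD'card]
      have := orderOf_dvd_natCard (⟨x, hx⟩ : D')
      rw [Subgroup.orderOf_mk] at this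
      exact dvd_trans hdvd this
    · intro hx
      have hx' : x ∈ ((Z : Subgroup ↥C) : Set ↥C) * (D' : Set ↥C) := by
        rw [Subgroup.IsComplement.mul_eq hD']; exact Set.mem_univ _
      obtain ⟨z, hz, d, hd, hzd⟩ := Set.mem_mul.mp hx'
      have hcomm : z * d = d * z := by
        apply Subtype.ext
        show (z : G) * (d : G) = (d : G) * (z : G)
        have hzK : (z : G) ∈ K := hz
        have hdC : (d : G) ∈ Subgroup.centralizer (K : Set G) := d.2
        rw [Subgroup.mem_centralizer_iff] at hdC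
        exact hdC _ hzK
      have hdn : d ^ (Nat.card D') = 1 := by
        have h1 : orderOf d ∣ Nat.card D' := by
          have := orderOf_dvd_natCard (⟨d, hd⟩ : D')
          rwa [Subgroup.orderOf_mk] at this
        exact orderOf_dvd_iff_pow_eq_one.mp h1
      have hxn : x ^ (Nat.card D') = z ^ (Nat.card D') := by
        rw [← hzd, Commute.mul_pow hcomm, hdn, mul_one]
      have h1 : orderOf (z ^ (Nat.card D')) = 1 := by
        by_contra hne
        obtain ⟨q, hq, hqd⟩ := Nat.exists_prime_and_dvd hne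
        have hq1 : q ∣ orderOf x := by
          rw [← hxn] at hqd
          exact dvd_trans hqd (orderOf_pow_dvd _)
        have hq2 : q ∣ Nat.card Z := by
          have h3 : orderOf (z ^ (Nat.card D')) ∣ Nat.card Z := by
            have := orderOf_dvd_natCard (⟨z ^ (Nat.card D'), Z.pow_mem hz _⟩ : Z)
            rwa [Subgroup.orderOf_mk] at this
          exact dvd_trans hqd h3
        exact hZcard q hq hq2 (hx q hq hq1)
      have hzn : z ^ (Nat.card D') = 1 := orderOf_eq_one_iff.mp h1
      have hz1 : z = 1 := by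
        have ha : orderOf z ∣ Nat.card D' := orderOf_dvd_of_pow_eq_one hzn
        have hb : orderOf z ∣ Nat.card Z := by
          have := orderOf_dvd_natCard (⟨z, hz⟩ : Z)
          rwa [Subgroup.orderOf_mk] at this
        have hc : Nat.Coprime (Nat.card Z) (Nat.card D') := by rw [hD'card]; exact hcop
        have := Nat.dvd_gcd hb ha
        rw [hc.gcd_eq_one] at this
        exact orderOf_eq_one_iff.mp (Nat.dvd_one.mp this)
      rw [← hzd, hz1, one_mul]; exact hd
  refine ⟨D'.map C.subtype, fun x => ?_⟩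
  constructor
  · rintro ⟨x', hx', rfl⟩
    have := (hchar x').mp hx'
    intro p hp hdvd
    apply this p hp
    rwa [Subgroup.coe_subtype, Subgroup.orderOf_coe] at hdvd
  · intro hx
    have hxC := hall x hx
    refine ⟨⟨x, hxC⟩, (hchar ⟨x, hxC⟩).mpr ?_, rfl⟩
    intro p hp hdvd
    apply hx p hp
    rwa [Subgroup.orderOf_mk] at hdvd

/-- Primary `π`-elements centralize `K` under the Sylow centralizer condition. -/
theorem lemmaB {G : Type*} [Group G] [Finite G] (π : Set ℕ) (K : Subgroup G) [K.Normal]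
    (hK : ∀ q : ℕ, q.Prime → q ∣ Nat.card K → q ∉ π)
    (hidx : ∀ q : ℕ, q.Prime → q ∣ K.index → q ∈ π)
    (hsyl : ∀ (q : ℕ) [Fact q.Prime], q ∉ π → ∀ Q : Sylow q G,
      K ⊔ Subgroup.centralizer ((Q : Subgroup G) : Set G) = ⊤)
    (x : G) (r k : ℕ) (hr : r.Prime) (hrπ : r ∈ π) (hx : orderOf x = r ^ k) :
    x ∈ Subgroup.centralizer (K : Set G) := by
  classical
  haveI : Fact r.Prime := ⟨hr⟩
  set M := K ⊓ Subgroup.centralizer ({x} : Set G) with hM
  have hrK : ¬ r ∣ Nat.card K := fun h => hK r hr h hrπ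
  have key : M.relIndex K = 1 := by
    by_contra hne
    obtain ⟨q, hq, hqd⟩ := Nat.exists_prime_and_dvd hne
    haveI : Fact q.Prime := ⟨hq⟩
    have hqK : q ∣ Nat.card K := dvd_trans hqd (Subgroup.relIndex_dvd_card _ _)
    have hqπ : q ∉ π := hK q hq hqK
    have hxp : IsPGroup r (Subgroup.zpowers x) := by
      apply IsPGroup.of_card (n := k); rw [Nat.card_zpowers, hx]
    have hcard : ¬ r ∣ Nat.card (Sylow q G) := by
      obtain ⟨Q₀⟩ : Nonempty (Sylow q G) := inferInstance
      rw [Sylow.card_eq_index_normalizer Q₀]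
      intro hdvd
      apply hrK
      refine dvd_trans hdvd (index_dvd_card_of_sup_eq_top K _ ?_)
      rw [eq_top_iff, ← hsyl q hqπ Q₀]
      exact sup_le_sup_left (Subgroup.centralizer_le_normalizer _) K
    obtain ⟨Q, hQ⟩ := hxp.nonempty_fixed_point_of_prime_not_dvd_card (Sylow q G) hcard
    rw [Subgroup.sylow_mem_fixedPoints_iff] at hQ
    have hxN : x ∈ Subgroup.normalizer ((Q : Subgroup G) : Set G) :=
      hQ (Subgroup.mem_zpowers x)
    have hxs : x ∈ K ⊔ Subgroup.centralizer ((Q : Subgroup G) : Set G) := by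
      rw [hsyl q hqπ Q]; exact Subgroup.mem_top x
    have hxs' : x ∈ (K : Set G) *
        (Subgroup.centralizer ((Q : Subgroup G) : Set G) : Set G) := by
      rw [← Subgroup.normal_mul]; exact hxs
    obtain ⟨k₀, hk₀, c, hc, hkc⟩ := Set.mem_mul.mp hxs'
    have hconj : ∀ t ∈ (Q : Subgroup G), x * t * x⁻¹ = k₀ * t * k₀⁻¹ := by
      intro t ht
      have hc' : c ∈ Subgroup.centralizer ((Q : Subgroup G) : Set G) := hc
      rw [Subgroup.mem_centralizer_iff] at hc'
      have h1 := hc' t ht
      rw [← hkc]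
      calc k₀ * c * t * (k₀ * c)⁻¹ = k₀ * (c * t) * c⁻¹ * k₀⁻¹ := by group
        _ = k₀ * (t * c) * c⁻¹ * k₀⁻¹ := by rw [h1]
        _ = k₀ * t * k₀⁻¹ := by group
    have hxQ : ∀ t ∈ (Q : Subgroup G), x * t * x⁻¹ ∈ (Q : Subgroup G) := by
      intro t ht
      rw [Subgroup.mem_normalizer_iff] at hxN
      exact (hxN t).mp ht
    have hkQ : ∀ t ∈ (Q : Subgroup G), k₀ * t * k₀⁻¹ ∈ (Q : Subgroup G) := by
      intro t ht
      rw [← hconj t ht]; exact hxQ t ht
    have hpow : ∀ j : ℕ, ∀ t ∈ (Q : Subgroup G),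
        x ^ j * t * (x ^ j)⁻¹ = k₀ ^ j * t * (k₀ ^ j)⁻¹ := by
      intro j
      induction j with
      | zero => intro t ht; simp
      | succ j ih =>
        intro t ht
        have h1 : x ^ (j + 1) * t * (x ^ (j + 1))⁻¹ = x ^ j * (x * t * x⁻¹) * (x ^ j)⁻¹ := by
          rw [pow_succ]; group
        have h2 : k₀ ^ (j + 1) * t * (k₀ ^ (j + 1))⁻¹ =
            k₀ ^ j * (k₀ * t * k₀⁻¹) * (k₀ ^ j)⁻¹ := by
          rw [pow_succ]; group
        rw [h1, h2, hconj t ht]
        exact ih _ (hkQ t ht)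
    have hm : x ^ (orderOf k₀) ∈ Subgroup.centralizer ((Q : Subgroup G) : Set G) := by
      rw [Subgroup.mem_centralizer_iff]
      intro t ht
      have := hpow (orderOf k₀) t ht
      rw [pow_orderOf_eq_one] at this
      have h3 : x ^ orderOf k₀ * t * (x ^ orderOf k₀)⁻¹ = t := by rw [this]; group
      calc t * x ^ orderOf k₀ = (x ^ orderOf k₀ * t * (x ^ orderOf k₀)⁻¹) * x ^ orderOf k₀ := by
            rw [h3]
        _ = x ^ orderOf k₀ * t := by group
    have hxcent : x ∈ Subgroup.centralizer ((Q : Subgroup G) : Set G) := by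
      apply mem_of_pow_mem_coprime _ x (a := orderOf k₀) (b := r ^ k) ?_ hm ?_
      · apply Nat.Coprime.pow_right
        have h1 : orderOf k₀ ∣ Nat.card K := by
          have := orderOf_dvd_natCard (⟨k₀, hk₀⟩ : K)
          rwa [Subgroup.orderOf_mk] at this
        exact Nat.Coprime.coprime_dvd_left h1
          ((Nat.Prime.coprime_iff_not_dvd hr).mpr hrK).symm
      · rw [← hx, pow_orderOf_eq_one]; exact Subgroup.one_mem _
    have hQK : (Q : Subgroup G) ≤ K := by
      intro t ht
      apply mem_of_coprime_index K t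
      obtain ⟨j, hj⟩ := Q.isPGroup' ⟨t, ht⟩
      have htj : t ^ (q ^ j) = 1 := congrArg Subtype.val hj
      have hdvd := orderOf_dvd_of_pow_eq_one htj
      apply Nat.Coprime.coprime_dvd_left hdvd
      apply Nat.Coprime.pow_left
      rw [Nat.Prime.coprime_iff_not_dvd hq]
      intro h; exact hqπ (hidx q hq h)
    have hQM : (Q : Subgroup G) ≤ M := by
      intro t ht
      refine ⟨hQK ht, ?_⟩
      show t ∈ Subgroup.centralizer ({x} : Set G)
      rw [Subgroup.mem_centralizer_iff]
      intro y hy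
      rw [Set.mem_singleton_iff] at hy
      rw [hy]
      rw [Subgroup.mem_centralizer_iff] at hxcent
      exact (hxcent t ht).symm
    have h1 : M.relIndex K ∣ (Q : Subgroup G).relIndex K := Subgroup.relIndex_dvd_of_le_left K hQM
    have h2 : (Q : Subgroup G).relIndex K ∣ (Q : Subgroup G).index :=
      Subgroup.relIndex_dvd_index_of_le hQK
    exact Q.not_dvd_index (dvd_trans hqd (dvd_trans h1 h2))
  rw [Subgroup.relIndex_eq_one] at key
  rw [Subgroup.mem_centralizer_iff]
  intro y hy
  have h1 : y ∈ Subgroup.centralizer ({x} : Set G) := (key hy).2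
  rw [Subgroup.mem_centralizer_iff] at h1
  exact (h1 x (Set.mem_singleton x)).symm

/-- Main lemma: under homogeneity, if `K` is normal with `π`-index and the `π`-elements of `K`
form a subgroup, then the `π`-elements of `G` form a subgroup. -/
theorem mainLemma {G : Type*} [Group G] [Finite G] (π : Set ℕ) (hhom : Hom π G)
    (K L : Subgroup G) [K.Normal]
    (hL : ∀ x : G, x ∈ L ↔ x ∈ K ∧ ∀ p : ℕ, p.Prime → p ∣ orderOf x → p ∈ π)
    (hidx : ∀ q : ℕ, q.Prime → q ∣ K.index → q ∈ π) :
    ∃ D : Subgroup G, ∀ x : G, x ∈ D ↔ ∀ p : ℕ, p.Prime → p ∣ orderOf x → p ∈ π := by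
  classical
  have hKn : K.Normal := inferInstance
  haveI hLn : L.Normal := by
    constructor
    intro x hx g
    rw [hL] at hx ⊢
    refine ⟨hKn.conj_mem x hx.1 g, ?_⟩
    have : orderOf (g * x * g⁻¹) = orderOf x := by
      rw [← MulAut.conj_apply]; exact MulEquiv.orderOf_eq (MulAut.conj g) x
    rw [this]; exact hx.2
  have hfs : Function.Surjective (QuotientGroup.mk' L) := QuotientGroup.mk'_surjective L
  haveI : (K.map (QuotientGroup.mk' L)).Normal := Subgroup.Normal.map hKn _ hfs
  have hKbcard : ∀ q : ℕ, q.Prime → q ∣ Nat.card (K.map (QuotientGroup.mk' L)) → q ∉ π := by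
    intro q hq hdvd hqπ
    haveI : Fact q.Prime := ⟨hq⟩
    have h1 : Nat.card (K.map (QuotientGroup.mk' L)) = L.relIndex K := by
      have := Subgroup.relIndex_ker K (QuotientGroup.mk' L)
      rw [QuotientGroup.ker_mk'] at this
      exact this.symm
    rw [h1] at hdvd
    obtain ⟨Q⟩ : Nonempty (Sylow q ↥K) := inferInstance
    have hQL : (Q : Subgroup ↥K) ≤ L.subgroupOf K := by
      intro t ht
      rw [Subgroup.mem_subgroupOf, hL]
      refine ⟨t.2, ?_⟩
      intro p hp hpd
      obtain ⟨j, hj⟩ := Q.isPGroup' ⟨t, ht⟩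
      have htj : t ^ (q ^ j) = 1 := congrArg Subtype.val hj
      have htj' : (t : G) ^ (q ^ j) = 1 := by
        have := congrArg Subtype.val htj
        simpa using this
      have h2 := orderOf_dvd_of_pow_eq_one htj'
      have h3 : p ∣ q ^ j := dvd_trans hpd h2
      have h4 : p = q := (Nat.prime_dvd_prime_iff_eq hp hq).mp (hp.dvd_of_dvd_pow h3)
      rw [h4]; exact hqπ
    have h2 : (L.subgroupOf K).index ∣ (Q : Subgroup ↥K).index := Subgroup.index_dvd_of_le hQL
    exact Q.not_dvd_index (dvd_trans hdvd h2)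
  have hKbidx : ∀ q : ℕ, q.Prime → q ∣ (K.map (QuotientGroup.mk' L)).index → q ∈ π := by
    intro q hq hdvd
    exact hidx q hq (dvd_trans hdvd (Subgroup.index_map_dvd K hfs))
  have hsyl : ∀ (q : ℕ) [Fact q.Prime], q ∉ π → ∀ Qb : Sylow q (G ⧸ L),
      K.map (QuotientGroup.mk' L) ⊔
        Subgroup.centralizer ((Qb : Subgroup (G ⧸ L)) : Set (G ⧸ L)) = ⊤ := by
    intro q hqF hqπ Qb
    have hq : q.Prime := hqF.out
    obtain ⟨Q, hQ⟩ := Sylow.mapSurjective_surjective hfs q Qb
    have hQb : (Qb : Subgroup (G ⧸ L)) = (Q : Subgroup G).map (QuotientGroup.mk' L) := by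
      rw [← hQ]; rfl
    have hQK : (Q : Subgroup G) ≤ K := by
      intro t ht
      apply mem_of_coprime_index K t
      obtain ⟨j, hj⟩ := Q.isPGroup' ⟨t, ht⟩
      have htj : t ^ (q ^ j) = 1 := congrArg Subtype.val hj
      have hdvd := orderOf_dvd_of_pow_eq_one htj
      apply Nat.Coprime.coprime_dvd_left hdvd
      apply Nat.Coprime.pow_left
      rw [Nat.Prime.coprime_iff_not_dvd hq]
      intro h; exact hqπ (hidx q hq h)
    have hKC : K ⊔ Subgroup.centralizer ((Q : Subgroup G) : Set G) = ⊤ := by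
      by_cases hQbot : (Q : Subgroup G) = ⊥
      · rw [hQbot]
        have : Subgroup.centralizer (((⊥ : Subgroup G)) : Set G) = ⊤ := by
          rw [eq_top_iff]
          intro g _
          rw [Subgroup.mem_centralizer_iff]
          intro h hh
          rw [SetLike.mem_coe, Subgroup.mem_bot] at hh
          rw [hh, one_mul, mul_one]
        rw [this, sup_top_eq]
      · have hfr : Subgroup.normalizer ((Q : Subgroup G) : Set G) ⊔ K = ⊤ :=
          Sylow.normalizer_sup_eq_top' Q hQK
        have hQπ : ∀ p : ℕ, p.Prime → p ∣ Nat.card (Q : Subgroup G) → p ∉ π := by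
          intro p hp hpd
          obtain ⟨j, hj⟩ := IsPGroup.iff_card.mp Q.isPGroup'
          rw [hj] at hpd
          have h4 : p = q := (Nat.prime_dvd_prime_iff_eq hp hq).mp (hp.dvd_of_dvd_pow hpd)
          rw [h4]; exact hqπ
        have hH := hhom (Q : Subgroup G) hQbot hQπ
        rw [eq_top_iff, ← hfr]
        apply sup_le _ le_sup_left
        intro n hn
        have h1 : n ^ ((Subgroup.centralizer ((Q : Subgroup G) : Set G)).relIndex
            (Subgroup.normalizer ((Q : Subgroup G) : Set G))) ∈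
            K ⊔ Subgroup.centralizer ((Q : Subgroup G) : Set G) := by
          apply Subgroup.mem_sup_right
          haveI : ((Subgroup.centralizer ((Q : Subgroup G) : Set G)).subgroupOf
              (Subgroup.normalizer ((Q : Subgroup G) : Set G))).Normal := by
            constructor
            intro c hc m
            rw [Subgroup.mem_subgroupOf] at hc ⊢
            exact conj_mem_centralizer (Q : Subgroup G) m c m.2 hc
          have := Subgroup.pow_index_mem ((Subgroup.centralizer ((Q : Subgroup G) : Set G)).subgroupOf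
              (Subgroup.normalizer ((Q : Subgroup G) : Set G)))
              (⟨n, hn⟩ : Subgroup.normalizer ((Q : Subgroup G) : Set G))
          rw [Subgroup.mem_subgroupOf] at this
          exact this
        have h2 : n ^ K.index ∈ K ⊔ Subgroup.centralizer ((Q : Subgroup G) : Set G) :=
          Subgroup.mem_sup_left (Subgroup.pow_index_mem K n)
        exact mem_of_pow_mem_coprime _ n (coprime_of_pi hidx hH).symm h1 h2
    rw [hQb, eq_top_iff]
    have h1 : (K ⊔ Subgroup.centralizer ((Q : Subgroup G) : Set G)).map (QuotientGroup.mk' L)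
        = ⊤ := by
      rw [hKC]; exact Subgroup.map_top_of_surjective _ hfs
    rw [← h1, Subgroup.map_sup]
    apply sup_le_sup_left
    rintro _ ⟨c, hc', rfl⟩
    have hc : c ∈ Subgroup.centralizer ((Q : Subgroup G) : Set G) := hc'
    rw [Subgroup.mem_centralizer_iff] at hc ⊢
    rintro _ ⟨t, ht, rfl⟩
    rw [← map_mul, ← map_mul, hc t ht]
  obtain ⟨Db, hDb⟩ := lemmaA π (K.map (QuotientGroup.mk' L)) hKbcard hKbidx (by
    rintro x ⟨r, k, hr, hrπ, hx⟩
    exact lemmaB π (K.map (QuotientGroup.mk' L)) hKbcard hKbidx hsyl x r k hr hrπ hx)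
  refine ⟨Db.comap (QuotientGroup.mk' L), fun x => ?_⟩
  rw [Subgroup.mem_comap, hDb]
  constructor
  · intro hx p hp hpd
    have hxn : x ^ (orderOf (QuotientGroup.mk' L x)) ∈ L := by
      have : QuotientGroup.mk' L (x ^ (orderOf (QuotientGroup.mk' L x))) = 1 := by
        rw [map_pow, pow_orderOf_eq_one]
      rw [QuotientGroup.mk'_apply, QuotientGroup.eq_one_iff] at this
      exact this
    have hLx := ((hL _).mp hxn).2
    have h1 : x ^ (orderOf (QuotientGroup.mk' L x) *
        orderOf (x ^ (orderOf (QuotientGroup.mk' L x)))) = 1 := by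
      rw [pow_mul, pow_orderOf_eq_one]
    have h2 := orderOf_dvd_of_pow_eq_one h1
    rcases (Nat.Prime.dvd_mul hp).mp (dvd_trans hpd h2) with h | h
    · exact hx p hp h
    · exact hLx p hp h
  · intro hx p hp hpd
    exact hx p hp (dvd_trans hpd (orderOf_map_dvd _ x))

end Cfsg.Agent.Lib.helper20.PiClosed
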