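import Mathlib
import Cfsg.Agent.Lib.helper20.BaerSuzuki

set_option autoImplicit false

namespace Cfsg.Agent.Lib.helper20

open scoped Pointwise

theorem conj_of_card_prime {G : Type*} [Group G] [Finite G] (q : ℕ) [Fact q.Prime]
    (M H₁ H₂ : Subgroup G) (h₁ : H₁ ≤ M) (h₂ : H₂ ≤ M) (c₁ : Nat.card H₁ = q)
    (c₂ : Nat.card H₂ = q) (hM : ¬ q ^ 2 ∣ Nat.card M) :
    ∃ m ∈ M, ∀ x ∈ H₁, m * x * m⁻¹ ∈ H₂ := by
  have hq : q.Prime := Fact.out
  have key : ∀ H : Subgroup G, H ≤ M → Nat.card H = q → ∀ P : Sylow q M,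
      H.subgroupOf M ≤ P → H.subgroupOf M = P := by
    intro H hH cH P hP
    have hcard : Nat.card (H.subgroupOf M) = q := by
      rw [Nat.card_congr (Subgroup.subgroupOfEquivOfLe hH).toEquiv, cH]
    obtain ⟨k, hk⟩ := IsPGroup.iff_card.mp P.isPGroup'
    have hdvd : Nat.card (P : Subgroup M) ∣ Nat.card M := Subgroup.card_subgroup_dvd_card _
    have hk2 : k < 2 := by
      by_contra hk2
      have : q ^ 2 ∣ q ^ k := Nat.pow_dvd_pow q (by omega)
      rw [← hk] at this
      exact hM (this.trans hdvd)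
    have hle : Nat.card (H.subgroupOf M) ≤ Nat.card (P : Subgroup M) :=
      Nat.le_of_dvd Nat.card_pos (Subgroup.card_dvd_of_le hP)
    have hk1 : k = 1 := by
      interval_cases k
      · rw [hcard, hk, pow_zero] at hle
        exact absurd hle (not_le.mpr hq.one_lt)
      · rfl
    apply Subgroup.eq_of_le_of_card_ge hP
    rw [hcard, hk, hk1, pow_one]
  have hp1 : IsPGroup q (H₁.subgroupOf M) := IsPGroup.of_card (n := 1) (by
    rw [Nat.card_congr (Subgroup.subgroupOfEquivOfLe h₁).toEquiv, c₁, pow_one])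
  have hp2 : IsPGroup q (H₂.subgroupOf M) := IsPGroup.of_card (n := 1) (by
    rw [Nat.card_congr (Subgroup.subgroupOfEquivOfLe h₂).toEquiv, c₂, pow_one])
  obtain ⟨P₁, hP₁⟩ := hp1.exists_le_sylow
  obtain ⟨P₂, hP₂⟩ := hp2.exists_le_sylow
  have e₁ := key H₁ h₁ c₁ P₁ hP₁
  have e₂ := key H₂ h₂ c₂ P₂ hP₂
  obtain ⟨m, hm⟩ := MulAction.exists_smul_eq M P₁ P₂
  refine ⟨m, m.2, fun x hx => ?_⟩
  have hxP : (⟨x, h₁ hx⟩ : M) ∈ (P₁ : Subgroup M) := by
    rw [← e₁]; exact Subgroup.mem_subgroupOf.mpr hx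
  have h3 : m * ⟨x, h₁ hx⟩ * m⁻¹ ∈ ((m • P₁ : Sylow q M) : Subgroup M) := by
    show m * ⟨x, h₁ hx⟩ * m⁻¹ ∈ MulAut.conj m • (P₁ : Subgroup M)
    rw [Subgroup.mem_smul_pointwise_iff_exists]
    exact ⟨⟨x, h₁ hx⟩, hxP, by rw [MulAut.smul_def, MulAut.conj_apply]⟩
  rw [hm, ← e₂] at h3
  exact Subgroup.mem_subgroupOf.mp h3

theorem not_normal_sylow_two_core {G : Type*} [Group G] [Finite G] (S : Sylow 2 G)
    (hS : ¬ (S : Subgroup G).Normal) :
    ∃ (q : ℕ) (h s : G), q.Prime ∧ q ≠ 2 ∧ orderOf h = q ∧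
      s ∈ Subgroup.normalizer ((Subgroup.zpowers h : Subgroup G) : Set G) ∧
      ∀ k : ℕ, Odd k → s ^ k * h ≠ h * s ^ k := by
  classical
  set D : Subgroup G := (S : Subgroup G).normalCore with hDdef
  have hDn : D.Normal := Subgroup.normalCore_normal _
  have hDS : D ≤ S := Subgroup.normalCore_le _
  have hD2 : IsPGroup 2 D := S.isPGroup'.to_le hDS
  have hDne : D ≠ S := by
    intro h
    apply hS
    rw [← h]
    exact hDn
  obtain ⟨t₀, ht₀S, ht₀D⟩ := SetLike.exists_of_lt (lt_of_le_of_ne hDS hDne)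
  obtain ⟨e, he⟩ := S.isPGroup' ⟨t₀, ht₀S⟩
  have he' : t₀ ^ (2 ^ e) = 1 := by
    have := congrArg Subtype.val he
    simpa using this
  have hex : ∃ j, t₀ ^ (2 ^ j) ∈ D := ⟨e, by rw [he']; exact D.one_mem⟩
  have hj₀spec : t₀ ^ (2 ^ (Nat.find hex)) ∈ D := Nat.find_spec hex
  have hj₀pos : Nat.find hex ≠ 0 := by
    intro h0
    rw [h0, pow_zero, pow_one] at hj₀spec
    exact ht₀D hj₀spec
  obtain ⟨i, hi⟩ : ∃ i, Nat.find hex = i + 1 := ⟨Nat.find hex - 1, by omega⟩
  set t := t₀ ^ (2 ^ i) with htdef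
  have htD : t ∉ D := Nat.find_min hex (by omega : i < Nat.find hex)
  have ht2 : t ^ 2 ∈ D := by
    rw [htdef, ← pow_mul, ← pow_succ, ← hi]; exact hj₀spec
  have htS : t ∈ (S : Subgroup G) := Subgroup.pow_mem _ ht₀S _
  have hBS : ∃ g : G, ¬ IsPGroup 2 (Subgroup.closure ({t, g * t * g⁻¹} : Set G)) := by
    by_contra hcon
    simp only [not_exists, not_not] at hcon
    let K : Set G := {a | ∃ g : G, a = g * t * g⁻¹}
    have hKn : ∀ g : G, ∀ a ∈ K, g * a * g⁻¹ ∈ K := by
      rintro g _ ⟨h', rfl⟩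
      exact ⟨g * h', by group⟩
    have hK2 : ∀ a ∈ K, ∀ b ∈ K, IsPGroup 2 (Subgroup.closure ({a, b} : Set G)) := by
      rintro _ ⟨g₁, rfl⟩ _ ⟨g₂, rfl⟩
      have hle : Subgroup.closure ({g₁ * t * g₁⁻¹, g₂ * t * g₂⁻¹} : Set G) ≤
          (Subgroup.closure ({t, (g₁⁻¹ * g₂) * t * (g₁⁻¹ * g₂)⁻¹} : Set G)).map
            (MulAut.conj g₁).toMonoidHom := by
        rw [Subgroup.closure_le]
        rintro _ (rfl | rfl)
        · exact ⟨t, Subgroup.subset_closure (by simp), by simp⟩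
        · refine ⟨(g₁⁻¹ * g₂) * t * (g₁⁻¹ * g₂)⁻¹, Subgroup.subset_closure (by simp), ?_⟩
          simp only [MulEquiv.coe_toMonoidHom, MulAut.conj_apply]
          group
      exact ((hcon (g₁⁻¹ * g₂)).map _).to_le hle
    apply htD
    intro b
    exact baer_suzuki_set K hKn hK2 S ⟨b, rfl⟩
  obtain ⟨g, hg⟩ := hBS
  let π := QuotientGroup.mk' D
  have hker : π.ker = D := QuotientGroup.ker_mk' D
  have hπsurj : Function.Surjective π := QuotientGroup.mk'_surjective D
  set a := π t with ha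
  set b := π (g * t * g⁻¹) with hb
  have ha2 : a * a = 1 := by
    rw [ha, ← map_mul, ← pow_two]; exact (QuotientGroup.eq_one_iff _).mpr ht2
  have hb2 : b * b = 1 := by
    rw [hb, ← map_mul]
    have : g * t * g⁻¹ * (g * t * g⁻¹) = g * t ^ 2 * g⁻¹ := by
      rw [pow_two]; simp [mul_assoc]
    rw [this]
    exact (QuotientGroup.eq_one_iff _).mpr (hDn.conj_mem _ ht2 g)
  have hainv : a⁻¹ = a := inv_eq_of_mul_eq_one_right ha2
  have hbinv : b⁻¹ = b := inv_eq_of_mul_eq_one_right hb2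
  set r := a * b with hr
  have har : a * r * a⁻¹ = r⁻¹ := by
    rw [hr, mul_inv_rev, hainv, hbinv]
    calc a * (a * b) * a = (a * a) * b * a := by group
      _ = b * a := by rw [ha2, one_mul]
  have hanorm : a ∈ Subgroup.normalizer ((Subgroup.zpowers r : Subgroup (G ⧸ D)) : Set (G ⧸ D)) := by
    rw [Subgroup.mem_normalizer_iff]
    intro x
    constructor
    · rintro ⟨k, rfl⟩
      refine ⟨-k, ?_⟩
      show r ^ (-k) = a * r ^ k * a⁻¹
      rw [← conj_zpow, har, inv_zpow, zpow_neg]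
    · rintro ⟨k, hk⟩
      have hk' : r ^ k = a * x * a⁻¹ := hk
      refine ⟨-k, ?_⟩
      show r ^ (-k) = x
      have hx : x = a * (a * x * a⁻¹) * a⁻¹ := by
        rw [hainv]
        calc x = (a * a) * x * (a * a) := by rw [ha2]; group
          _ = a * (a * x * a) * a := by group
      rw [hx, ← hk', ← conj_zpow, har, inv_zpow, zpow_neg]
  have hrnot : ¬ IsPGroup 2 (Subgroup.zpowers r) := by
    intro hrp
    have hap : IsPGroup 2 (Subgroup.zpowers a) := by
      have : Subgroup.zpowers a ≤ (S : Subgroup G).map π := by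
        rw [Subgroup.zpowers_le]
        exact ⟨t, htS, rfl⟩
      exact (S.isPGroup'.map π).to_le this
    have hsup : IsPGroup 2 (Subgroup.zpowers a ⊔ Subgroup.zpowers r : Subgroup (G ⧸ D)) :=
      IsPGroup.to_sup_of_normal_right' hap hrp (by rw [Subgroup.zpowers_le]; exact hanorm)
    have hcomap := hsup.comap_of_ker_isPGroup π (by rw [hker]; exact hD2)
    apply hg
    refine hcomap.to_le ?_
    rw [Subgroup.closure_le]
    rintro _ (rfl | rfl)
    · rw [SetLike.mem_coe, Subgroup.mem_comap]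
      exact Subgroup.mem_sup_left (Subgroup.mem_zpowers a)
    · rw [SetLike.mem_coe, Subgroup.mem_comap]
      have : π (g * t * g⁻¹) = a * r := by rw [hr, ← mul_assoc, ha2, one_mul]
      rw [this]
      exact Subgroup.mul_mem _ (Subgroup.mem_sup_left (Subgroup.mem_zpowers a))
        (Subgroup.mem_sup_right (Subgroup.mem_zpowers r))
  have hr0 : orderOf r ≠ 0 := (orderOf_pos r).ne'
  obtain ⟨q, hqp, hqdvd, hq2⟩ : ∃ q : ℕ, q.Prime ∧ q ∣ orderOf r ∧ q ≠ 2 := by
    by_contra hcon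
    simp only [not_exists, not_and, not_not] at hcon
    have := Nat.eq_prime_pow_of_unique_prime_dvd hr0 (fun {d} hd hdvd => hcon d hd hdvd)
    apply hrnot
    exact IsPGroup.of_card (by rw [Nat.card_zpowers, this])
  have hqfact : Fact q.Prime := ⟨hqp⟩
  set o := r ^ (orderOf r / q) with ho
  have hoq : orderOf o = q := orderOf_pow_orderOf_div hr0 hqdvd
  have hao : a * o * a⁻¹ = o⁻¹ := by
    rw [ho, ← conj_pow, har, inv_pow]
  have hanorm_o : ∀ y ∈ Subgroup.zpowers o, a * y * a⁻¹ = y⁻¹ := by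
    rintro _ ⟨k, rfl⟩
    show a * o ^ k * a⁻¹ = (o ^ k)⁻¹
    rw [← conj_zpow, hao, inv_zpow]
  have hq_not_dvd : ∀ d : ℕ, ¬ q ∣ 2 ^ d := by
    intro d hd
    have := hqp.dvd_of_dvd_pow hd
    exact hq2 ((Nat.prime_dvd_prime_iff_eq hqp Nat.prime_two).mp this)
  obtain ⟨o₀, ho₀⟩ := hπsurj o
  obtain ⟨d, hd⟩ := IsPGroup.iff_card.mp hD2
  set h := o₀ ^ (2 ^ d) with hh
  have ho₀q : o₀ ^ q ∈ D := by
    rw [← hker, MonoidHom.mem_ker, map_pow, ho₀, ← hoq, pow_orderOf_eq_one]
  have hhq : h ^ q = 1 := by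
    rw [hh, ← pow_mul, mul_comm, pow_mul]
    have := pow_card_eq_one' (G := D) (x := ⟨o₀ ^ q, ho₀q⟩)
    rw [hd] at this
    exact congrArg Subtype.val this
  have hπh : π h = o ^ (2 ^ d) := by rw [hh, map_pow, ho₀]
  have hcop : (orderOf o).Coprime (2 ^ d) := by
    rw [hoq]
    exact (Nat.Prime.coprime_iff_not_dvd hqp).mpr (hq_not_dvd d)
  have hπh_ord : orderOf (π h) = q := by
    rw [hπh, hcop.orderOf_pow, hoq]
  have hh1 : h ≠ 1 := by
    intro h1
    rw [h1, map_one, orderOf_one] at hπh_ord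
    exact hqp.one_lt.ne hπh_ord
  have hhord : orderOf h = q := orderOf_eq_prime hhq hh1
  have hzp : Subgroup.zpowers (π h) = Subgroup.zpowers o := by
    apply Subgroup.eq_of_le_of_card_ge
    · rw [Subgroup.zpowers_le, hπh]
      exact Subgroup.pow_mem _ (Subgroup.mem_zpowers o) _
    · rw [Nat.card_zpowers, Nat.card_zpowers, hπh_ord, hoq]
  set H := Subgroup.zpowers h with hH
  set M := (Subgroup.zpowers o).comap π with hM
  have hHM : H ≤ M := by
    rw [hH, Subgroup.zpowers_le]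
    show π h ∈ Subgroup.zpowers o
    rw [← hzp]; exact Subgroup.mem_zpowers _
  set H₂ := H.map (MulAut.conj t).toMonoidHom with hH₂
  have hH₂M : H₂ ≤ M := by
    rintro _ ⟨x, hx, rfl⟩
    show π (MulAut.conj t x) ∈ Subgroup.zpowers o
    rw [MulAut.conj_apply, map_mul, map_mul, map_inv]
    have hxo : π x ∈ Subgroup.zpowers o := hHM hx
    show a * π x * a⁻¹ ∈ Subgroup.zpowers o
    rw [hanorm_o _ hxo]
    exact Subgroup.inv_mem _ hxo
  have cH : Nat.card H = q := by rw [hH, Nat.card_zpowers, hhord]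
  have cH₂ : Nat.card H₂ = q := by
    rw [hH₂, Subgroup.card_map_of_injective (MulAut.conj t).injective, cH]
  have cM : Nat.card M = q * Nat.card D := by
    have e1 := Subgroup.card_mul_index M
    have e2 : M.index = (Subgroup.zpowers o).index := Subgroup.index_comap_of_surjective _ hπsurj
    have e3 := Subgroup.card_mul_index (Subgroup.zpowers o)
    have e4 := Subgroup.card_eq_card_quotient_mul_card_subgroup D
    rw [Nat.card_zpowers, hoq] at e3
    have hidx : 0 < (Subgroup.zpowers o).index :=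
      Nat.pos_of_ne_zero Subgroup.index_ne_zero_of_finite
    rw [e2] at e1
    have : Nat.card M * (Subgroup.zpowers o).index = q * Nat.card D * (Subgroup.zpowers o).index := by
      rw [e1, e4, ← e3]; ring
    exact Nat.eq_of_mul_eq_mul_right hidx this
  have hMq : ¬ q ^ 2 ∣ Nat.card M := by
    rw [cM, hd, pow_two]
    intro hdvd
    exact hq_not_dvd d (Nat.dvd_of_mul_dvd_mul_left hqp.pos hdvd)
  obtain ⟨m, hmM, hm⟩ := conj_of_card_prime q M H H₂ hHM hH₂M cH cH₂ hMq
  set s := t⁻¹ * m with hs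
  have hsH : ∀ x ∈ H, s * x * s⁻¹ ∈ H := by
    intro x hx
    obtain ⟨y, hy, hy'⟩ := hm x hx
    have hy'' : t * y * t⁻¹ = m * x * m⁻¹ := by
      rw [← hy']; simp [MulAut.conj_apply]
    have : s * x * s⁻¹ = y := by
      rw [hs]
      calc t⁻¹ * m * x * (t⁻¹ * m)⁻¹ = t⁻¹ * (m * x * m⁻¹) * t := by group
        _ = t⁻¹ * (t * y * t⁻¹) * t := by rw [hy'']
        _ = y := by group
    rw [this]; exact hy
  have hsnorm : s ∈ Subgroup.normalizer ((H : Subgroup G) : Set G) := by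
    rw [Subgroup.mem_normalizer_iff]
    intro x
    refine ⟨hsH x, fun hx => ?_⟩
    let f : H → H := fun y => ⟨s * y * s⁻¹, hsH y y.2⟩
    have hfinj : Function.Injective f := by
      intro y₁ y₂ h12
      have h12' : s * (y₁ : G) * s⁻¹ = s * (y₂ : G) * s⁻¹ := congrArg Subtype.val h12
      apply Subtype.ext
      exact mul_left_cancel (mul_right_cancel h12')
    obtain ⟨y, hy⟩ := (Finite.injective_iff_surjective.mp hfinj) ⟨s * x * s⁻¹, hx⟩
    have hy' : s * (y : G) * s⁻¹ = s * x * s⁻¹ := congrArg Subtype.val hy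
    have : (y : G) = x := by simpa using hy'
    rw [← this]; exact y.2
  refine ⟨q, h, s, hqp, hq2, hhord, hsnorm, ?_⟩
  intro k hk hcomm
  set c := π m with hc
  have hcz : c ∈ Subgroup.zpowers o := hmM
  set u := π s with hu
  have hu_eq : u = a * c := by
    rw [hu, hs, map_mul, map_inv, hainv]
  have hco : c * o = o * c := by
    obtain ⟨j, hj⟩ := hcz
    have hj' : o ^ j = c := hj
    rw [← hj']
    exact ((Commute.refl o).zpow_left j).eq
  have hu2 : u * u = 1 := by
    rw [hu_eq]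
    have h1 := hanorm_o c hcz
    calc a * c * (a * c) = (a * c * a⁻¹) * c := by rw [hainv]; group
      _ = 1 := by rw [h1]; group
  have huk : u ^ k = u := by
    obtain ⟨i', rfl⟩ := hk
    rw [pow_succ, pow_mul, pow_two, hu2, one_pow, one_mul]
  have hcomm' : u * π h = π h * u := by
    have := congrArg π hcomm
    rw [map_mul, map_mul, map_pow] at this
    rw [← huk]; exact this
  have huo : u * o = o * u := by
    have ho_mem : o ∈ Subgroup.zpowers (π h) := by rw [hzp]; exact Subgroup.mem_zpowers o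
    obtain ⟨j, hj⟩ := ho_mem
    have hj' : (π h) ^ j = o := hj
    rw [← hj']
    exact ((show Commute u (π h) from hcomm').zpow_right j).eq
  have ho_inv : o = o⁻¹ := by
    have h1 : a * o * a⁻¹ = o := by
      have h2 : a * c * o = o * (a * c) := by rw [← hu_eq]; exact huo
      calc a * o * a⁻¹ = a * (o * c) * c⁻¹ * a⁻¹ := by group
        _ = a * (c * o) * c⁻¹ * a⁻¹ := by rw [hco]
        _ = (a * c * o) * c⁻¹ * a⁻¹ := by group
        _ = o * (a * c) * c⁻¹ * a⁻¹ := by rw [h2]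
        _ = o := by group
    rw [← hao]; exact h1.symm
  have ho2 : o ^ 2 = 1 := by
    rw [pow_two]
    nth_rewrite 2 [ho_inv]
    exact mul_inv_cancel o
  have := orderOf_dvd_of_pow_eq_one ho2
  rw [hoq] at this
  exact hq2 ((Nat.prime_dvd_prime_iff_eq hqp Nat.prime_two).mp this)

end Cfsg.Agent.Lib.helper20
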